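/-
A four-group of automorphisms whose fixed-point subgroups have a single involution in common.
-/
import Cfsg.Agent.S0111
import Cfsg.Agent.Lib.SylowExtra
import Cfsg.Agent.Lib.Elementary

set_option autoImplicit false
set_option linter.unusedSectionVars false

namespace Cfsg.Agent.RankOneGamma

open scoped commutatorElement

universe u

variable {G : Type u} [Group G]

theorem mul_self_conj {x e : G} (he : e * e = 1) : x * e * x⁻¹ * (x * e * x⁻¹) = 1 := by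
  rw [show x * e * x⁻¹ * (x * e * x⁻¹) = x * (e * e) * x⁻¹ by group, he, mul_one, mul_inv_cancel]

theorem four_pow_div {n : ℕ} (hn : 2 ≤ n) : 4 * 2 ^ (n - 2) = 2 ^ n := by
  rw [show n = (n - 2) + 2 by omega, pow_add]
  simp [mul_comm]

theorem exists_pow_conj {r : G} {C : Subgroup G} [Finite G] (hC : C = Subgroup.zpowers r) {x : G}
    (hx : x * r * x⁻¹ ∈ C) : ∃ a : ℕ, x * r * x⁻¹ = r ^ a := by
  rw [hC, ← mem_powers_iff_mem_zpowers] at hx
  obtain ⟨a, ha⟩ := hx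
  exact ⟨a, ha.symm⟩

theorem conj_pow_of {x r : G} {a : ℕ} (h : x * r * x⁻¹ = r ^ a) (i : ℕ) : x * r ^ i * x⁻¹ = r ^ (a * i) := by
  rw [← conj_pow, h, ← pow_mul]

/-- The situation: a cyclic group `⟨r⟩` of order `2 ^ n` with involution `z`. -/
structure Cyc (r z : G) (n : ℕ) : Prop where
  ord : orderOf r = 2 ^ n
  two : 2 ≤ n
  zdef : z = r ^ (2 ^ (n - 1))

variable {r z : G} {n : ℕ}

theorem Cyc.z_sq (h : Cyc r z n) : z * z = 1 := by
  have hn := h.two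
  rw [h.zdef, ← pow_add, ← two_mul, ← pow_succ', show n - 1 + 1 = n by omega, ← h.ord, pow_orderOf_eq_one]

theorem Cyc.z_ne (h : Cyc r z n) : z ≠ 1 := by
  have hn := h.two
  rw [h.zdef]
  refine pow_ne_one_of_lt_orderOf (pow_pos two_pos _).ne' ?_
  rw [h.ord]
  exact Nat.pow_lt_pow_right (by norm_num) (by omega)

theorem Cyc.pow_dvd (h : Cyc r z n) {i : ℕ} : r ^ i = 1 ↔ 2 ^ n ∣ i := by
  rw [← h.ord, orderOf_dvd_iff_pow_eq_one]

theorem Cyc.sq_cases (h : Cyc r z n) {i : ℕ} (hi : r ^ i * r ^ i = 1) : r ^ i = 1 ∨ r ^ i = z := by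
  have hn := h.two
  rw [← pow_add, ← two_mul, h.pow_dvd, show n = n - 1 + 1 by omega, pow_succ'] at hi
  obtain ⟨k, hk⟩ := (Nat.mul_dvd_mul_iff_left two_pos).1 hi
  rw [hk, pow_mul, ← h.zdef]
  rcases Nat.even_or_odd k with ⟨m, hm⟩ | ⟨m, hm⟩
  · left; rw [hm, pow_add, ← (Commute.refl z).mul_pow, h.z_sq, one_pow]
  · right; rw [hm, pow_succ, pow_mul, pow_two, h.z_sq, one_pow, one_mul]

theorem Cyc.z_comm (h : Cyc r z n) (i : ℕ) : Commute z (r ^ i) := by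
  rw [h.zdef]; exact Commute.pow_pow_self r _ _

theorem Cyc.z_pow_odd (h : Cyc r z n) {i : ℕ} (hi : Odd i) : z ^ i = z := by
  obtain ⟨m, rfl⟩ := hi
  rw [pow_succ, pow_mul, pow_two, h.z_sq, one_pow, one_mul]

theorem Cyc.z_pow_even (h : Cyc r z n) {i : ℕ} (hi : Even i) : z ^ i = 1 := by
  obtain ⟨m, rfl⟩ := hi
  rw [← two_mul, pow_mul, pow_two, h.z_sq, one_pow]

/-- The possible images of the generator under an action of order two. -/
theorem Cyc.image_one_mod_four (h : Cyc r z n) {a : ℕ} (ha : a % 4 = 1) (h2 : r ^ (a * a) = r) :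
    r ^ a = r ∨ (r ^ a = r * z ∧ 3 ≤ n) := by
  have hn := h.two
  obtain ⟨b, rfl⟩ : ∃ b, a = 4 * b + 1 := ⟨a / 4, by omega⟩
  rw [show (4 * b + 1) * (4 * b + 1) = 8 * b * (2 * b + 1) + 1 by ring, pow_succ, mul_eq_right, h.pow_dvd] at h2
  have hd : 2 ^ n ∣ 8 * b :=
    (Nat.Coprime.dvd_mul_right (Nat.Coprime.pow_left n (Nat.coprime_two_left.2 ⟨b, rfl⟩))).1 h2
  rcases h.sq_cases (i := 4 * b) (by rw [← pow_add, h.pow_dvd, show 4 * b + 4 * b = 8 * b by ring]; exact hd) with e | e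
  · left; rw [pow_succ, e, one_mul]
  · by_cases h3 : 3 ≤ n
    · right; exact ⟨by rw [pow_succ, e, (by simpa using h.z_comm 1 : Commute z r).eq], h3⟩
    · exfalso
      refine h.z_ne (e ▸ ?_)
      rw [h.pow_dvd, show n = 2 by omega]
      exact dvd_mul_right 4 b

theorem Cyc.image_three_mod_four (h : Cyc r z n) {a : ℕ} (ha : a % 4 = 3) (h2 : r ^ (a * a) = r) :
    r ^ a = r⁻¹ ∨ r ^ a = r⁻¹ * z := by
  obtain ⟨b, rfl⟩ : ∃ b, a = 4 * b + 3 := ⟨a / 4, by omega⟩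
  rw [show (4 * b + 3) * (4 * b + 3) = 8 * (b + 1) * (2 * b + 1) + 1 by ring, pow_succ, mul_eq_right, h.pow_dvd] at h2
  have hd : 2 ^ n ∣ 8 * (b + 1) :=
    (Nat.Coprime.dvd_mul_right (Nat.Coprime.pow_left n (Nat.coprime_two_left.2 ⟨b, rfl⟩))).1 h2
  have hr : r ^ (4 * b + 3) = r⁻¹ * r ^ (4 * (b + 1)) := by
    rw [eq_inv_mul_iff_mul_eq, ← pow_succ', show 4 * b + 3 + 1 = 4 * (b + 1) by ring]
  rcases h.sq_cases (i := 4 * (b + 1)) (by rw [← pow_add, h.pow_dvd, show 4 * (b + 1) + 4 * (b + 1) = 8 * (b + 1) by ring]; exact hd) with e | e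
  · left; rw [hr, e, mul_one]
  · right; rw [hr, e]

/-- If `r ^ (2 i) = z ^ i` and eight divides the order then `r ^ i` is `1` or `z`. -/
theorem Cyc.twist (h : Cyc r z n) (h3 : 3 ≤ n) {i : ℕ} (hi : r ^ i * r ^ i = z ^ i) :
    r ^ i = 1 ∨ r ^ i = z := by
  rcases Nat.even_or_odd i with he | ho
  · exact h.sq_cases (by rw [hi, h.z_pow_even he])
  · exfalso
    rw [h.z_pow_odd ho] at hi
    have h4 : r ^ (4 * i) = 1 := by
      rw [show 4 * i = (i + i) + (i + i) by ring, pow_add, pow_add, hi, h.z_sq]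
    rw [h.pow_dvd] at h4
    have h8 : 8 ∣ 4 * i := (pow_dvd_pow 2 h3).trans h4
    obtain ⟨m, rfl⟩ := ho
    omega

theorem Cyc.exists_sqrt (h : Cyc r z n) : ∃ q : ℕ, r ^ q * r ^ q = z ∧ (3 ≤ n → Even q) := by
  have hn := h.two
  refine ⟨2 ^ (n - 2), ?_, fun h3 => Nat.even_pow.2 ⟨even_two, by omega⟩⟩
  rw [← pow_add, ← two_mul, ← pow_succ', show n - 2 + 1 = n - 1 by omega, h.zdef]

end Cfsg.Agent.RankOneGamma
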