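/-
A perfect normal subgroup has only one class-free involution in a Sylow 2-subgroup if a four-group of
automorphisms has fixed points of rank one.
-/
import Cfsg.Agent.Lib.RankOneGamma.Basic

set_option autoImplicit false
set_option linter.unusedSectionVars false
set_option maxHeartbeats 1000000

namespace Cfsg.Agent.RankOneGamma

open scoped commutatorElement

universe u

variable {G : Type u} [Group G] [Finite G]

/-- A four-group `U` normalizing the Sylow 2-subgroup `S` of the normal subgroup `A`, all of whose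
nontrivial members have only the involution `z` among their fixed involutions in `S`. -/
structure Setup (A U S : Subgroup G) (z : G) : Prop where
  perfect : ⁅A, A⁆ = A
  sq : ∀ u ∈ U, u * u = 1
  three : ∃ u ∈ U, ∃ v ∈ U, u ≠ 1 ∧ v ≠ 1 ∧ u ≠ v
  le : S ≤ A
  two : IsPGroup 2 S
  sylow : ¬ 2 ∣ S.relIndex A
  norm : U ≤ Subgroup.normalizer (S : Set G)
  zS : z ∈ S
  z2 : z * z = 1
  z1 : z ≠ 1
  zU : ∀ u ∈ U, u * z = z * u
  zcen : ∀ x ∈ S, x * z = z * x
  key : ∀ e ∈ S, e * e = 1 → e ≠ 1 → ∀ u ∈ U, u ≠ 1 → u * e = e * u → e = z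

variable {A U S : Subgroup G} {z : G}

theorem Setup.not_all (h : Setup A U S z) {e : G} (he : e ∈ S) (he2 : e * e = 1) (he1 : e ≠ 1) (hez : e ≠ z)
    (hall : ∀ u ∈ U, u * e * u⁻¹ = e ∨ u * e * u⁻¹ = z * e) : False := by
  obtain ⟨u, hu, v, hv, hu1, hv1, huv⟩ := h.three
  have hne : ∀ w ∈ U, w ≠ 1 → w * e * w⁻¹ = z * e := fun w hw hw1 =>
    (hall w hw).resolve_left fun e' => hez (h.key e he he2 he1 w hw hw1 (mul_inv_eq_iff_eq_mul.1 e'))
  have hw1 : u * v ≠ 1 := fun e' => huv (by rw [eq_inv_of_mul_eq_one_left e', inv_eq_of_mul_eq_one_right (h.sq v hv)])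
  have h3 := hne (u * v) (U.mul_mem hu hv) hw1
  rw [show u * v * e * (u * v)⁻¹ = u * (v * e * v⁻¹) * u⁻¹ by group, hne v hv hv1,
    show u * (z * e) * u⁻¹ = (u * z * u⁻¹) * (u * e * u⁻¹) by group, h.zU u hu, mul_inv_cancel_right,
    hne u hu hu1, ← mul_assoc, h.z2, one_mul] at h3
  exact h.z1 (right_eq_mul.1 h3)

/-- A second involution in `S` makes `S` dihedral or semidihedral, and one member of `U` acts on it
as an element of order four. -/
theorem Setup.structure_of (h : Setup A U S z) {s : G} (hs : s ∈ S) (hs2 : s * s = 1) (hs1 : s ≠ 1) (hsz : s ≠ z) :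
    ∃ (C : Subgroup G) (q u t : G), C ≤ S ∧ C.relIndex S = 2 ∧ s ∉ C ∧ (∀ c ∈ C, c * c = 1 → c = 1 ∨ c = z) ∧
      (∀ e ∈ S, e * e = 1 → e ≠ 1 → e ≠ z → ∀ c ∈ S, c * e = e * c → c = 1 ∨ c = z ∨ c = e ∨ c = z * e) ∧
      (q ∈ S ∧ ∀ e ∈ S, e * e = 1 → e ≠ 1 → e ≠ z → q * e * q⁻¹ = z * e) ∧
      u ∈ U ∧ t ∈ S ∧ t * t = z ∧ ∀ x ∈ S, u * x * u⁻¹ = t * x * t⁻¹ := by
  classical
  haveI : Fact (Nat.Prime 2) := ⟨Nat.prime_two⟩
  set M := S ⊔ U with hM
  have hzM : ∀ x ∈ M, x * z = z * x := fun x hx => by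
    have hle : M ≤ Subgroup.centralizer ({z} : Set G) :=
      sup_le (fun y hy => Subgroup.mem_centralizer_singleton_iff.2 (h.zcen y hy))
        fun y hy => Subgroup.mem_centralizer_singleton_iff.2 (h.zU y hy)
    exact Subgroup.mem_centralizer_singleton_iff.1 (hle hx)
  have hMS : ∀ x ∈ M, ∀ y ∈ S, x * y * x⁻¹ ∈ S := fun x hx y hy =>
    (Subgroup.mem_normalizer_iff.1 ((sup_le Subgroup.le_normalizer h.norm : M ≤ _) hx) y).1 hy
  -- a maximal invariant abelian subgroup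
  obtain ⟨C, ⟨hCS, hCn, hCc⟩, hCmax⟩ := Set.Finite.exists_maximalFor (fun C : Subgroup G => Nat.card C)
    {C : Subgroup G | C ≤ S ∧ (∀ x ∈ M, ∀ c ∈ C, x * c * x⁻¹ ∈ C) ∧ ∀ a ∈ C, ∀ b ∈ C, a * b = b * a}
    (Set.toFinite _) ⟨⊥, bot_le, fun x _ c hc => by rw [Subgroup.mem_bot.1 hc]; simp,
      fun a ha b hb => by rw [Subgroup.mem_bot.1 ha, Subgroup.mem_bot.1 hb]⟩
  have hmax : ∀ D : Subgroup G, C ≤ D → D ≤ S → (∀ x ∈ M, ∀ c ∈ D, x * c * x⁻¹ ∈ D) →
      (∀ a ∈ D, ∀ b ∈ D, a * b = b * a) → D = C := fun D hCD hDS hDn hDc => by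
    refine (Subgroup.eq_of_le_of_card_ge hCD ?_).symm
    exact hCmax ⟨hDS, hDn, hDc⟩ (Nat.card_le_card_of_injective (Subgroup.inclusion hCD) (Subgroup.inclusion_injective hCD))
  have hzC : z ∈ C := by
    have hD : C ⊔ Subgroup.zpowers z = C := by
      refine hmax _ le_sup_left (sup_le hCS (Subgroup.zpowers_le.2 h.zS)) ?_ ?_
      · intro x hx c hc
        have hle : C ⊔ Subgroup.zpowers z ≤ (C ⊔ Subgroup.zpowers z).comap (MulAut.conj x).toMonoidHom := by
          refine sup_le (fun a ha => Subgroup.mem_sup_left (hCn x hx a ha)) (Subgroup.zpowers_le.2 (Subgroup.mem_comap.2 ?_))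
          show x * z * x⁻¹ ∈ _
          rw [hzM x hx, mul_inv_cancel_right]
          exact Subgroup.mem_sup_right (Subgroup.mem_zpowers z)
        exact hle hc
      · have hzc : ∀ a ∈ C, a * z = z * a := fun a ha => h.zcen a (hCS ha)
        have h1 : C ⊔ Subgroup.zpowers z ≤ Subgroup.centralizer ((C ⊔ Subgroup.zpowers z : Subgroup G) : Set G) := by
          refine sup_le ?_ (Subgroup.zpowers_le.2 ?_)
          · rw [Subgroup.le_centralizer_iff]
            exact sup_le (fun a ha => Subgroup.mem_centralizer_iff.2 fun b hb => hCc b hb a ha)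
              (Subgroup.zpowers_le.2 (Subgroup.mem_centralizer_iff.2 fun b hb => hzc b hb))
          · exact Subgroup.mem_centralizer_iff.2 fun b hb => h.zcen b ((sup_le hCS (Subgroup.zpowers_le.2 h.zS)) hb)
        exact fun a ha b hb => (Subgroup.mem_centralizer_iff.1 (h1 ha) b hb).symm
    exact hD ▸ Subgroup.mem_sup_right (Subgroup.mem_zpowers z)
  have hCinv : ∀ c ∈ C, c * c = 1 → c = 1 ∨ c = z := by
    intro c hc hc2
    by_contra hcon
    push Not at hcon
    refine h.not_all (hCS hc) hc2 hcon.1 hcon.2 fun u hu => ?_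
    have huM : u ∈ M := Subgroup.mem_sup_right hu
    have hc' := hCn u huM c hc
    have hui : u⁻¹ = u := inv_eq_of_mul_eq_one_right (h.sq u hu)
    by_cases hu1 : u = 1
    · left; simp [hu1]
    set w := c * (u * c * u⁻¹) with hw
    have hcw : Commute c (u * c * u⁻¹) := hCc c hc _ hc'
    have hw2 : w * w = 1 := by
      rw [← pow_two, hw, hcw.mul_pow, pow_two, pow_two, hc2, one_mul, mul_self_conj hc2]
    have huw : u * w = w * u := by
      calc u * w = (u * c * u⁻¹) * (u * u) * c * u⁻¹ := by rw [hw]; group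
        _ = (u * c * u⁻¹) * c * u := by rw [h.sq u hu, mul_one, hui]
        _ = w * u := by rw [hw, hcw.eq]
    have hce : c⁻¹ = c := inv_eq_of_mul_eq_one_right hc2
    by_cases hw1 : w = 1
    · left
      rw [← inv_eq_of_mul_eq_one_right hw1, hce]
    · right
      have := h.key w (hCS (C.mul_mem hc hc')) hw2 hw1 u hu hu1 huw
      rw [← h.zcen c (hCS hc)]
      calc u * c * u⁻¹ = c * w := by rw [hw, ← mul_assoc, hc2, one_mul]
        _ = c * z := by rw [this]
  -- it is cyclic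
  obtain ⟨r₀, hr₀C, hr₀max⟩ := Set.exists_max_image (C : Set G) orderOf (Set.toFinite _) ⟨1, C.one_mem⟩
  have hC2 : ∀ c ∈ C, ∃ k, orderOf c = 2 ^ k := fun c hc => by
    obtain ⟨m, hm⟩ := h.two ⟨c, hCS hc⟩
    obtain ⟨k, -, hk⟩ := (Nat.dvd_prime_pow Nat.prime_two).1
      (orderOf_dvd_of_pow_eq_one (x := c) (n := 2 ^ m) (congrArg Subtype.val hm))
    exact ⟨k, hk⟩
  obtain ⟨n, hn⟩ := hC2 r₀ hr₀C
  have hn1 : 1 ≤ n := by
    by_contra h0
    have h1 := hr₀max z hzC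
    rw [hn, show n = 0 by omega, pow_zero, orderOf_eq_prime (by rw [pow_two]; exact h.z2) h.z1] at h1
    omega
  have hzr : r₀ ^ 2 ^ (n - 1) = z := by
    refine (hCinv _ (C.pow_mem hr₀C _) ?_).resolve_left ?_
    · rw [← pow_add, ← two_mul, ← pow_succ', show n - 1 + 1 = n by omega, ← hn, pow_orderOf_eq_one]
    · refine pow_ne_one_of_lt_orderOf (pow_pos two_pos _).ne' ?_
      rw [hn]
      exact Nat.pow_lt_pow_right (by norm_num) (by omega)
  have hCcyc : C = Subgroup.zpowers r₀ := by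
    refine le_antisymm (fun c hc => ?_) (Subgroup.zpowers_le.2 hr₀C)
    induction hk : orderOf c using Nat.strong_induction_on generalizing c with
    | _ k ih =>
    subst hk
    obtain ⟨m, hm⟩ := hC2 c hc
    rcases Nat.eq_zero_or_pos m with rfl | hm0
    · rw [show c = 1 from orderOf_eq_one_iff.1 (by simpa using hm)]; exact one_mem _
    have hsq : orderOf (c ^ 2) = 2 ^ (m - 1) := by
      rw [orderOf_pow' c two_ne_zero, hm, Nat.gcd_eq_right (dvd_pow_self 2 (by omega : m ≠ 0))]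
      conv_lhs => rw [show m = m - 1 + 1 by omega, pow_succ, Nat.mul_div_cancel _ two_pos]
    obtain ⟨j, hj⟩ : c ^ 2 ∈ Submonoid.powers r₀ := mem_powers_iff_mem_zpowers.2
      (ih _ (by rw [hsq, hm]; exact Nat.pow_lt_pow_right (by norm_num) (by omega)) _ (C.pow_mem hc 2) rfl)
    rcases Nat.even_or_odd j with ⟨i, hi⟩ | hjo
    · have hd : c * (r₀ ^ i)⁻¹ = 1 ∨ c * (r₀ ^ i)⁻¹ = z := by
        refine hCinv _ (C.mul_mem hc (C.inv_mem (C.pow_mem hr₀C _))) ?_
        rw [← pow_two, (Commute.inv_right (show Commute c (r₀ ^ i) from hCc c hc _ (C.pow_mem hr₀C i))).mul_pow,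
          ← hj, inv_pow, ← pow_mul]
        show r₀ ^ j * (r₀ ^ (i * 2))⁻¹ = 1
        rw [hi, mul_two, mul_inv_cancel]
      rcases hd with e | e
      · rw [mul_inv_eq_one.1 e]; exact pow_mem (Subgroup.mem_zpowers r₀) _
      · rw [mul_inv_eq_iff_eq_mul.1 e, ← hzr]
        exact mul_mem (pow_mem (Subgroup.mem_zpowers r₀) _) (pow_mem (Subgroup.mem_zpowers r₀) _)
    · exfalso
      have h1 : orderOf (r₀ ^ j) = 2 ^ n := by
        rw [Nat.Coprime.orderOf_pow (by rw [hn]; exact Nat.Coprime.pow_left n (Nat.coprime_two_left.2 hjo)), hn]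
      have h2 : (2 : ℕ) ^ n = 2 ^ (m - 1) := by rw [← h1, show r₀ ^ j = c ^ 2 from hj, hsq]
      have h3 := hr₀max c hc
      rw [hn, hm, h2] at h3
      have := Nat.pow_lt_pow_right (by norm_num : 1 < 2) (show m - 1 < m by omega)
      omega
  set r := r₀
  have hrC : r ∈ C := hr₀C
  -- it is self-centralizing
  have hCS' : ∀ x ∈ S, x * r = r * x → x ∈ C := by
    intro x hx hxr
    by_contra hxC
    have hSM : S ≤ M := le_sup_left
    set D := S ⊓ Subgroup.centralizer (C : Set G) with hD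
    have hxD : x ∈ D := by
      refine ⟨hx, Subgroup.mem_centralizer_iff.2 fun c hc => ?_⟩
      obtain ⟨i, rfl⟩ := Subgroup.mem_zpowers_iff.1 (hCcyc ▸ hc)
      exact ((show Commute x r from hxr).zpow_right i).eq.symm
    have hDn : ∀ y ∈ M, ∀ d ∈ D, y * d * y⁻¹ ∈ D := by
      intro y hy d hd
      refine ⟨hMS y hy d hd.1, Subgroup.mem_centralizer_iff.2 fun c hc => ?_⟩
      have hc' := hCn y⁻¹ (M.inv_mem hy) c hc
      rw [inv_inv] at hc'
      have := Subgroup.mem_centralizer_iff.1 hd.2 _ hc'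
      calc c * (y * d * y⁻¹) = y * (y⁻¹ * c * y * d) * y⁻¹ := by group
        _ = y * (d * (y⁻¹ * c * y)) * y⁻¹ := by rw [this]
        _ = y * d * y⁻¹ * c := by group
    have hSn : (S.subgroupOf M).Normal := ⟨fun a ha b => hMS b b.2 a ha⟩
    have hCnorm : (C.subgroupOf M).Normal := ⟨fun a ha b => hCn b b.2 a ha⟩
    have hDnorm : (D.subgroupOf M).Normal := ⟨fun a ha b => hDn b b.2 a ha⟩
    have hMp : IsPGroup 2 M := by
      refine IsPGroup.to_sup_of_normal_left' h.two (fun u => ⟨1, Subtype.ext ?_⟩) h.norm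
      show (u : G) ^ 2 ^ 1 = 1
      rw [pow_one, pow_two, h.sq u u.2]
    haveI : Group.IsNilpotent M := hMp.isNilpotent
    haveI := hCnorm
    haveI := hDnorm
    haveI : Group.IsNilpotent (M ⧸ C.subgroupOf M) :=
      Group.nilpotent_of_surjective (QuotientGroup.mk' _) (QuotientGroup.mk'_surjective _)
    set mk := QuotientGroup.mk' (C.subgroupOf M)
    haveI : ((D.subgroupOf M).map mk).Normal := Subgroup.Normal.map inferInstance mk (QuotientGroup.mk'_surjective _)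
    have hne : (D.subgroupOf M).map mk ≠ ⊥ := fun e => hxC (by
      have h1 : mk ⟨x, hSM hx⟩ ∈ (D.subgroupOf M).map mk := ⟨_, hxD, rfl⟩
      rw [e, Subgroup.mem_bot, QuotientGroup.mk'_apply, QuotientGroup.eq_one_iff] at h1
      exact h1)
    obtain ⟨q, ⟨⟨d, hd, rfl⟩, hdc⟩, hd1⟩ :=
      SetLike.exists_of_lt (bot_lt_iff_ne_bot.2 (CfsgLib.inf_center_ne_bot_of_nilpotent hne))
    have hdC : (d : G) ∉ C := fun e => hd1 (Subgroup.mem_bot.2 ((QuotientGroup.eq_one_iff _).2 e))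
    have hdD : (d : G) ∈ D := hd
    have hE : C ⊔ Subgroup.zpowers (d : G) = C := by
      refine hmax _ le_sup_left (sup_le hCS (Subgroup.zpowers_le.2 hdD.1)) ?_ ?_
      · intro y hy c hc
        have hle : C ⊔ Subgroup.zpowers (d : G) ≤ (C ⊔ Subgroup.zpowers (d : G)).comap (MulAut.conj y).toMonoidHom := by
          refine sup_le (fun a ha => Subgroup.mem_sup_left (hCn y hy a ha)) (Subgroup.zpowers_le.2 (Subgroup.mem_comap.2 ?_))
          show y * d * y⁻¹ ∈ _
          have h1 := Subgroup.mem_center_iff.1 hdc (mk ⟨y, hy⟩)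
          have h2 : mk (⟨y, hy⟩ * d * (⟨y, hy⟩)⁻¹ * d⁻¹) = 1 := by
            rw [map_mul, map_mul, map_mul, map_inv, map_inv, h1, mul_inv_cancel_right, mul_inv_cancel]
          rw [QuotientGroup.mk'_apply, QuotientGroup.eq_one_iff] at h2
          have h3 : y * d * y⁻¹ * (d : G)⁻¹ ∈ C := h2
          have := Subgroup.mul_mem _ (Subgroup.mem_sup_left (T := Subgroup.zpowers (d : G)) h3)
            (Subgroup.mem_sup_right (S := C) (Subgroup.mem_zpowers (d : G)))
          rwa [inv_mul_cancel_right] at this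
        exact hle hc
      · have hdc' : ∀ a ∈ C, a * d = d * a := fun a ha => Subgroup.mem_centralizer_iff.1 hdD.2 a ha
        have h1 : C ⊔ Subgroup.zpowers (d : G) ≤
            Subgroup.centralizer ((C ⊔ Subgroup.zpowers (d : G) : Subgroup G) : Set G) := by
          refine sup_le ?_ ?_
          · rw [Subgroup.le_centralizer_iff]
            exact sup_le (fun a ha => Subgroup.mem_centralizer_iff.2 fun b hb => hCc b hb a ha)
              (Subgroup.zpowers_le.2 (Subgroup.mem_centralizer_iff.2 fun b hb => hdc' b hb))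
          · rw [Subgroup.le_centralizer_iff]
            exact sup_le (fun a ha => Subgroup.mem_centralizer_iff.2 fun b hb => by
              obtain ⟨i, rfl⟩ := Subgroup.mem_zpowers_iff.1 hb
              exact ((show Commute a (d : G) from hdc' a ha).zpow_right i).eq.symm)
              (Subgroup.zpowers_le.2 (Subgroup.mem_centralizer_iff.2 fun b hb => by
              obtain ⟨i, rfl⟩ := Subgroup.mem_zpowers_iff.1 hb
              exact ((Commute.refl (d : G)).zpow_left i).eq))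
        exact fun a ha b hb => (Subgroup.mem_centralizer_iff.1 (h1 ha) b hb).symm
    exact hdC (hE ▸ Subgroup.mem_sup_right (Subgroup.mem_zpowers _))
  have hn2 : 2 ≤ n := by
    by_contra h0
    refine (hCinv s (hCS' s hs ?_) hs2).elim hs1 hsz
    have hrz : r = z := by rw [← hzr, show n - 1 = 0 by omega, pow_zero, pow_one]
    rw [hrz, h.zcen s hs]
  have hc : Cyc r z n := ⟨hn, hn2, hzr.symm⟩
  have hri : ∀ i : ℕ, r ^ i ∈ C := fun i => C.pow_mem hrC i
  have hzi : ∀ i : ℕ, z * r ^ i = r ^ i * z := fun i => (hc.z_comm i).eq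
  have hact : ∀ x ∈ M, ∃ a, x * r * x⁻¹ = r ^ a ∧ Odd a := by
    intro x hx
    obtain ⟨a, ha⟩ := exists_pow_conj hCcyc (hCn x hx r hrC)
    refine ⟨a, ha, Nat.not_even_iff_odd.1 fun he => ?_⟩
    have h1 : (x * r * x⁻¹) ^ 2 ^ (n - 1) = 1 := by
      obtain ⟨m, rfl⟩ := he
      rw [ha, ← pow_mul, hc.pow_dvd, ← two_mul]
      exact ⟨m, by rw [show n = n - 1 + 1 by omega, pow_succ]; simp; ring⟩
    rw [conj_pow, hzr, hzM x hx, mul_inv_cancel_right] at h1
    exact h.z1 h1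
  have hsq2 : ∀ {x : G} {a : ℕ}, x * r * x⁻¹ = r ^ a → x * x ∈ C → r ^ (a * a) = r := by
    intro x a ha hxx
    rw [← conj_pow_of ha a, ← ha]
    calc x * (x * r * x⁻¹) * x⁻¹ = x * x * r * (x * x)⁻¹ := by group
      _ = r := by rw [hCc _ hxx r hrC, mul_inv_cancel_right]
  have hUi : ∀ u ∈ U, u⁻¹ = u := fun u hu => inv_eq_of_mul_eq_one_right (h.sq u hu)
  -- no element twists by the involution
  have hL : ∀ x ∈ S, x * x ∈ C → ∀ a, x * r * x⁻¹ = r ^ a → a % 4 = 1 → x ∈ C := by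
    intro y hy hyy a ha ha4
    rcases hc.image_one_mod_four ha4 (hsq2 ha hyy) with e | ⟨e, h3⟩
    · exact hCS' y hy (mul_inv_eq_iff_eq_mul.1 (ha.trans e))
    exfalso
    rw [e] at ha
    obtain ⟨c, hcy⟩ : y * y ∈ Submonoid.powers r := mem_powers_iff_mem_zpowers.2 (hCcyc ▸ hyy)
    change r ^ c = y * y at hcy
    have hpz : ∀ i : ℕ, y * r ^ i * y⁻¹ = r ^ i * z ^ i := fun i => by
      rw [← conj_pow, ha, (show Commute r z by simpa using (hc.z_comm 1).symm).mul_pow]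
    obtain ⟨k, hk⟩ : Even c := by
      by_contra hodd
      have h1 := hpz c
      rw [hc.z_pow_odd (Nat.not_even_iff_odd.1 hodd), hcy,
        show y * (y * y) * y⁻¹ = y * y by group, left_eq_mul] at h1
      exact h.z1 h1
    have hyinv : ∀ g : G, ∀ i : ℕ, g = r ^ i → y⁻¹ * g * y = g * z ^ i := by
      rintro _ i rfl
      have hzi' : z ^ i * z ^ i = 1 := by rw [← (Commute.refl z).mul_pow, h.z2, one_pow]
      have hyz : y * z ^ i * y⁻¹ = z ^ i := by
        rw [← conj_pow, h.zcen y hy, mul_inv_cancel_right]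
      calc y⁻¹ * r ^ i * y = y⁻¹ * (r ^ i * z ^ i * z ^ i) * y := by rw [mul_assoc (r ^ i), hzi', mul_one]
        _ = y⁻¹ * (y * r ^ i * y⁻¹ * (y * z ^ i * y⁻¹)) * y := by rw [hpz, hyz]
        _ = r ^ i * z ^ i := by group
    obtain ⟨q, hq, hqe⟩ := hc.exists_sqrt
    -- an involution with the same action
    obtain ⟨g, hgC, hg⟩ : ∃ g ∈ C, (y * g) * (y * g) = 1 := by
      have hinv : ∀ g : G, (y * g) * (y * g) = y * y * ((y⁻¹ * g * y) * g) := fun g => by group
      obtain ⟨i, hi⟩ : (r ^ k)⁻¹ ∈ Submonoid.powers r :=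
        mem_powers_iff_mem_zpowers.2 (Subgroup.inv_mem _ (pow_mem (Subgroup.mem_zpowers r) k))
      change r ^ i = (r ^ k)⁻¹ at hi
      have hik : r ^ (i + k) = 1 := by rw [pow_add, hi, inv_mul_cancel]
      have hpar : Even i ↔ Even k := by
        have hd := hc.pow_dvd.1 hik
        have h2 : 2 ∣ i + k := (dvd_pow_self 2 (by omega : n ≠ 0)).trans hd
        rw [Nat.even_iff, Nat.even_iff]; omega
      rcases Nat.even_or_odd k with hke | hko
      · refine ⟨r ^ i, hri i, ?_⟩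
        rw [hinv, hyinv _ i rfl, hc.z_pow_even (hpar.2 hke), mul_one, ← hcy, hk, ← pow_add, ← pow_add,
          show k + k + (i + i) = (i + k) + (i + k) by ring, pow_add, hik, one_mul]
      · refine ⟨r ^ (i + q), hri _, ?_⟩
        have hodd : Odd (i + q) := Odd.add_even (Nat.not_even_iff_odd.1 fun e => Nat.not_even_iff_odd.2 hko (hpar.1 e)) (hqe h3)
        rw [hinv, hyinv _ (i + q) rfl, hc.z_pow_odd hodd, ← hcy, hk, mul_assoc (r ^ (i + q)), hzi, ← mul_assoc,
          ← pow_add, ← mul_assoc, ← pow_add, show k + k + (i + q) + (i + q) = (i + k) + (i + k) + (q + q) by ring,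
          pow_add, pow_add, hik, one_mul, one_mul, pow_add, hq, h.z2]
    set e' := y * g with he'
    have he'S : e' ∈ S := S.mul_mem hy (hCS hgC)
    have hyC : y ∉ C := fun hyC => by
      rw [hCc y hyC r hrC, mul_inv_cancel_right, left_eq_mul] at ha
      exact h.z1 ha
    have he'C : e' ∉ C := fun e0 => hyC (by simpa [he'] using C.mul_mem e0 (C.inv_mem hgC))
    have her : e' * r * e'⁻¹ = r * z := by
      rw [← ha, he']
      calc y * g * r * (y * g)⁻¹ = y * (g * r) * g⁻¹ * y⁻¹ := by group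
        _ = y * r * y⁻¹ := by rw [hCc g hgC r hrC]; group
    have he'i : e'⁻¹ = e' := inv_eq_of_mul_eq_one_right hg
    refine h.not_all he'S hg (fun e0 => he'C (e0 ▸ C.one_mem)) (fun e0 => he'C (e0 ▸ hzC)) fun p hp => ?_
    have hpM : p ∈ M := Subgroup.mem_sup_right hp
    obtain ⟨b, hb, hbo⟩ := hact p hpM
    set e'' := p * e' * p⁻¹ with he''
    have hr : r = p * r ^ b * p⁻¹ := by
      rw [← hb, hUi p hp]
      calc r = (p * p) * r * (p * p) := by rw [h.sq p hp, one_mul, mul_one]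
        _ = p * (p * r * p) * p := by group
    have her' : e'' * r * e''⁻¹ = r * z := by
      conv_lhs => rw [hr]
      calc e'' * (p * r ^ b * p⁻¹) * e''⁻¹ = p * (e' * r ^ b * e'⁻¹) * p⁻¹ := by rw [he'']; group
        _ = p * (r ^ b * z) * p⁻¹ := by
          rw [← conj_pow, her, (show Commute r z by simpa using (hc.z_comm 1).symm).mul_pow, hc.z_pow_odd hbo]
        _ = (p * r ^ b * p⁻¹) * (p * z * p⁻¹) := by group
        _ = r * z := by rw [← hr, h.zU p hp, mul_inv_cancel_right]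
    have hwS : e'' * e' ∈ S := S.mul_mem (hMS p hpM _ he'S) he'S
    have hw : e'' * e' ∈ C := hCS' _ hwS (by
      rw [← mul_inv_eq_iff_eq_mul]
      calc e'' * e' * r * (e'' * e')⁻¹ = e'' * (e' * r * e'⁻¹) * e''⁻¹ := by group
        _ = (e'' * r * e''⁻¹) * (e'' * z * e''⁻¹) := by rw [her]; group
        _ = r := by rw [her', h.zcen _ (hMS p hpM _ he'S), mul_inv_cancel_right, mul_assoc, h.z2, mul_one])
    obtain ⟨j, hj⟩ : e'' * e' ∈ Submonoid.powers r := mem_powers_iff_mem_zpowers.2 (hCcyc ▸ hw)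
    change r ^ j = e'' * e' at hj
    have he2 : e'' = r ^ j * e' := by rw [hj, mul_assoc, hg, mul_one]
    have h2 : r ^ j * r ^ j = z ^ j := by
      have h1 := mul_self_conj (x := p) hg
      rw [← he'', he2] at h1
      have h4 : r ^ j * (e' * r ^ j * e'⁻¹) = 1 := by rw [he'i, ← h1]; group
      rw [← conj_pow, her, (show Commute r z by simpa using (hc.z_comm 1).symm).mul_pow, ← mul_assoc] at h4
      rw [eq_inv_of_mul_eq_one_left h4, ← inv_pow, inv_eq_of_mul_eq_one_right h.z2]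
    rcases hc.twist h3 h2 with e0 | e0
    · left; rw [he2, e0, one_mul]
    · right; rw [he2, e0]
  have hsqC : ∀ m, ∀ x ∈ S, x ^ 2 ^ m ∈ C → x * x ∈ C := by
    intro m
    induction m with
    | zero => intro x _ hxm; rw [pow_zero, pow_one] at hxm; exact C.mul_mem hxm hxm
    | succ m ihm =>
      intro x hx hxm
      rw [pow_succ', pow_mul] at hxm
      have hxS : x ^ 2 ∈ S := S.pow_mem hx 2
      obtain ⟨a, ha, hao⟩ := hact x (Subgroup.mem_sup_left hx)
      rw [← pow_two]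
      refine hL _ hxS (ihm _ hxS hxm) (a * a) ?_ (Nat.mul_mod _ _ _ ▸ ?_)
      · rw [pow_two, ← conj_pow_of ha a, ← ha]; group
      · obtain ⟨i, rfl⟩ := hao
        have : (2 * i + 1) % 4 = 1 ∨ (2 * i + 1) % 4 = 3 := by omega
        rcases this with e | e <;> rw [e]
  have hsqS : ∀ x ∈ S, x * x ∈ C := fun x hx => by
    obtain ⟨m, hm⟩ := h.two ⟨x, hx⟩
    exact hsqC m x hx (by rw [show x ^ 2 ^ m = 1 from congrArg Subtype.val hm]; exact C.one_mem)
  have hout : ∀ x ∈ S, x ∉ C → ∀ a, x * r * x⁻¹ = r ^ a → Odd a → a % 4 = 3 := by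
    intro x hx hxC a ha hao
    have : a % 4 ≠ 1 := fun e => hxC (hL x hx (hsqS x hx) a ha e)
    obtain ⟨i, rfl⟩ := hao
    omega
  have hprod : ∀ x ∈ S, x ∉ C → ∀ y ∈ S, y ∉ C → x * y ∈ C := by
    intro x hx hxC y hy hyC
    obtain ⟨a, ha, hao⟩ := hact x (Subgroup.mem_sup_left hx)
    obtain ⟨b, hb, hbo⟩ := hact y (Subgroup.mem_sup_left hy)
    refine hL _ (S.mul_mem hx hy) (hsqS _ (S.mul_mem hx hy)) (a * b) ?_ ?_
    · rw [show x * y * r * (x * y)⁻¹ = x * (y * r * y⁻¹) * x⁻¹ by group, hb, conj_pow_of ha]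
    · rw [Nat.mul_mod, hout x hx hxC a ha hao, hout y hy hyC b hb hbo]
  have hinvC : ∀ e ∈ S, e * e = 1 → e ≠ 1 → e ≠ z → e ∉ C := fun e _ he2 he1 hez heC =>
    (hCinv e heC he2).elim he1 hez
  have hsC := hinvC s hs hs2 hs1 hsz
  have hidx : C.relIndex S = 2 := by
    show (C.subgroupOf S).index = 2
    rw [Subgroup.index_eq_two_iff]
    refine ⟨⟨s, hs⟩, fun b => ?_⟩
    simp only [Subgroup.mem_subgroupOf, Subgroup.coe_mul]
    by_cases hb : (b : G) ∈ C
    · exact Or.inr ⟨hb, fun e => hsC (by simpa using C.mul_mem (C.inv_mem hb) e)⟩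
    · exact Or.inl ⟨hprod _ b.2 hb s hs hsC, hb⟩
  have hinvert : ∀ e ∈ S, e * e = 1 → e ≠ 1 → e ≠ z →
      e * r * e⁻¹ = r⁻¹ ∨ (e * r * e⁻¹ = r⁻¹ * z ∧ 3 ≤ n) := by
    intro e he he2 he1 hez
    have heC := hinvC e he he2 he1 hez
    obtain ⟨a, ha, hao⟩ := hact e (Subgroup.mem_sup_left he)
    rcases hc.image_three_mod_four (hout e he heC a ha hao) (hsq2 ha (hsqS e he)) with e0 | e0
    · exact Or.inl (ha.trans e0)
    · refine Or.inr ⟨ha.trans e0, ?_⟩
      by_contra h3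
      refine heC (hCS' e he (mul_inv_eq_iff_eq_mul.1 ?_))
      rw [ha.trans e0, ← hzr, show n - 1 = 1 by omega]
      group
  have hconjpow : ∀ e, e * r * e⁻¹ = r⁻¹ * z → ∀ i : ℕ, e * r ^ i * e⁻¹ = (r ^ i)⁻¹ * z ^ i := fun e he i => by
    rw [← conj_pow, he, (show Commute r⁻¹ z by simpa using ((hc.z_comm 1).symm).inv_left).mul_pow, inv_pow]
  have hcent : ∀ e ∈ S, e * e = 1 → e ≠ 1 → e ≠ z → ∀ c ∈ S, c * e = e * c →
      c = 1 ∨ c = z ∨ c = e ∨ c = z * e := by
    intro e he he2 he1 hez c hcS hce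
    have hC : ∀ d ∈ C, d * e = e * d → d = 1 ∨ d = z := by
      intro d hd hde
      obtain ⟨i, hi⟩ : d ∈ Submonoid.powers r := mem_powers_iff_mem_zpowers.2 (hCcyc ▸ hd)
      change r ^ i = d at hi
      subst hi
      have h1 : e * r ^ i * e⁻¹ = r ^ i := by rw [← hde, mul_inv_cancel_right]
      rcases hinvert e he he2 he1 hez with e0 | ⟨e0, h3⟩
      · rw [← conj_pow, e0, inv_pow, inv_eq_iff_mul_eq_one] at h1
        exact hc.sq_cases h1
      · rw [hconjpow e e0] at h1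
        exact hc.twist h3 ((inv_mul_eq_iff_eq_mul.1 h1).symm)
    by_cases hcC : c ∈ C
    · rcases hC c hcC hce with e0 | e0 <;> simp [e0]
    · have hce' : c * e ∈ C := hprod c hcS hcC e he (hinvC e he he2 he1 hez)
      rcases hC _ hce' (by rw [mul_assoc, he2, mul_one, ← mul_assoc, ← hce, mul_assoc, he2, mul_one]) with e0 | e0
      · right; right; left
        rw [eq_inv_of_mul_eq_one_left e0, inv_eq_of_mul_eq_one_right he2]
      · right; right; right
        rw [← e0, mul_assoc, he2, mul_one]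
  obtain ⟨qe, hq, hqe⟩ := hc.exists_sqrt
  set q := r ^ qe with hqdef
  have hqconj : ∀ e ∈ S, e * e = 1 → e ≠ 1 → e ≠ z → q * e * q⁻¹ = z * e := by
    intro e he he2 he1 hez
    have h1 : e * q * e⁻¹ = q⁻¹ := by
      rcases hinvert e he he2 he1 hez with e0 | ⟨e0, h3⟩
      · rw [hqdef, ← conj_pow, e0, inv_pow]
      · rw [hqdef, hconjpow e e0, hc.z_pow_even (hqe h3), mul_one]
    calc q * e * q⁻¹ = q * (e * q * e⁻¹)⁻¹ * e := by group
      _ = z * e := by rw [h1, inv_inv, hq]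
  -- the action of U
  have himg : ∀ u ∈ U, u * r * u⁻¹ = r ∨ (u * r * u⁻¹ = r * z ∧ 3 ≤ n) ∨ u * r * u⁻¹ = r⁻¹ ∨
      u * r * u⁻¹ = r⁻¹ * z := by
    intro u hu
    obtain ⟨a, ha, hao⟩ := hact u (Subgroup.mem_sup_right hu)
    have h2 := hsq2 ha (by rw [h.sq u hu]; exact C.one_mem)
    rw [ha]
    obtain ⟨i, rfl⟩ := hao
    rcases (by omega : (2 * i + 1) % 4 = 1 ∨ (2 * i + 1) % 4 = 3) with e | e
    · rcases hc.image_one_mod_four e h2 with e0 | e0 <;> simp [e0]
    · rcases hc.image_three_mod_four e h2 with e0 | e0 <;> simp [e0]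
  have hsimg : ∀ u ∈ U, u ≠ 1 → ∃ β : ℕ, u * s * u⁻¹ = r ^ β * s ∧ r ^ β ≠ 1 := by
    intro u hu hu1
    have hS' := hMS u (Subgroup.mem_sup_right hu) s hs
    have hC' : u * s * u⁻¹ ∉ C := fun e0 => hsC (by
      have := hCn u (Subgroup.mem_sup_right hu) _ e0
      rw [hUi u hu] at this
      rwa [show u * (u * s * u) * u = (u * u) * s * (u * u) by group, h.sq u hu, one_mul, mul_one] at this)
    obtain ⟨β, hβ⟩ : u * s * u⁻¹ * s ∈ Submonoid.powers r :=
      mem_powers_iff_mem_zpowers.2 (hCcyc ▸ hprod _ hS' hC' s hs hsC)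
    change r ^ β = _ at hβ
    refine ⟨β, by rw [hβ, mul_assoc (u * s * u⁻¹), hs2, mul_one], fun e0 => hsz (h.key s hs hs2 hs1 u hu hu1 ?_)⟩
    rw [e0] at hβ
    rw [← mul_inv_eq_iff_eq_mul, eq_inv_of_mul_eq_one_left hβ.symm, inv_eq_of_mul_eq_one_right hs2]
  have hext : ∀ u t : G, u * r * u⁻¹ = t * r * t⁻¹ → u * s * u⁻¹ = t * s * t⁻¹ →
      ∀ x ∈ S, u * x * u⁻¹ = t * x * t⁻¹ := by
    intro u t h1 h2 x hx
    have hCeq : ∀ c ∈ C, u * c * u⁻¹ = t * c * t⁻¹ := fun c hc' => by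
      obtain ⟨i, rfl⟩ := Subgroup.mem_zpowers_iff.1 (hCcyc ▸ hc')
      rw [← conj_zpow, ← conj_zpow, h1]
    by_cases hxC : x ∈ C
    · exact hCeq x hxC
    · calc u * x * u⁻¹ = (u * (x * s) * u⁻¹) * (u * s * u⁻¹) := by
            rw [show u * (x * s) * u⁻¹ * (u * s * u⁻¹) = u * x * (s * s) * u⁻¹ by group, hs2, mul_one]
        _ = (t * (x * s) * t⁻¹) * (t * s * t⁻¹) := by rw [hCeq _ (hprod x hx hxC s hs hsC), h2]
        _ = t * x * t⁻¹ := by
            rw [show t * (x * s) * t⁻¹ * (t * s * t⁻¹) = t * x * (s * s) * t⁻¹ by group, hs2, mul_one]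
  refine ⟨C, q, ?_⟩
  suffices hgoal : ∃ u t, u ∈ U ∧ t ∈ S ∧ t * t = z ∧ u * r * u⁻¹ = t * r * t⁻¹ ∧ u * s * u⁻¹ = t * s * t⁻¹ by
    obtain ⟨u, t, hu, ht, ht2, h1, h2⟩ := hgoal
    exact ⟨u, t, hCS, hidx, hsC, hCinv, hcent, ⟨hCS (hri _), hqconj⟩, hu, ht, ht2, hext u t h1 h2⟩
  have hqr : q * r * q⁻¹ = r := by rw [hqdef]; group
  by_cases hfix : ∃ u ∈ U, u ≠ 1 ∧ u * r * u⁻¹ = r
  · obtain ⟨u, hu, hu1, hur⟩ := hfix
    obtain ⟨β, hβ, hβ1⟩ := hsimg u hu hu1
    refine ⟨u, q, hu, hCS (hri _), hq, hur.trans hqr.symm, ?_⟩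
    have h2 : r ^ β * r ^ β = 1 := by
      refine mul_right_cancel (b := s) ?_
      calc r ^ β * r ^ β * s = (u * r ^ β * u⁻¹) * (u * s * u⁻¹) := by
            rw [← conj_pow, hur, hβ]; group
        _ = u * (r ^ β * s) * u⁻¹ := by group
        _ = u * (u * s * u⁻¹) * u⁻¹ := by rw [← hβ]
        _ = 1 * s := by
            rw [hUi u hu, show u * (u * s * u) * u = (u * u) * s * (u * u) by group, h.sq u hu, one_mul, mul_one]
    rw [hβ, (hc.sq_cases h2).resolve_left hβ1, hqconj s hs hs2 hs1 hsz]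
  push Not at hfix
  obtain ⟨u₁, hu₁, u₂, hu₂, h11, h21, h12⟩ := h.three
  have h31 : u₁ * u₂ ≠ 1 := fun e' => h12 (by rw [eq_inv_of_mul_eq_one_left e', hUi u₂ hu₂])
  have h13 : u₁ ≠ u₁ * u₂ := fun e => h21 (left_eq_mul.1 e)
  have h23 : u₂ ≠ u₁ * u₂ := fun e => h11 (right_eq_mul.1 e)
  have hu₃ := U.mul_mem hu₁ hu₂
  have hinj : ∀ a ∈ U, ∀ b ∈ U, a ≠ b → a * r * a⁻¹ ≠ b * r * b⁻¹ := by
    intro a ha b hb hab e
    refine hfix (b * a) (U.mul_mem hb ha) (fun e' => hab (by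
      rw [eq_inv_of_mul_eq_one_right e', hUi b hb])) ?_
    calc b * a * r * (b * a)⁻¹ = b * (a * r * a⁻¹) * b⁻¹ := by group
      _ = b * (b * r * b⁻¹) * b⁻¹ := by rw [e]
      _ = r := by
        rw [hUi b hb, show b * (b * r * b) * b = (b * b) * r * (b * b) by group, h.sq b hb, one_mul, mul_one]
  have hget : ∀ a ∈ U, a ≠ 1 → (a * r * a⁻¹ = r * z ∧ 3 ≤ n) ∨ a * r * a⁻¹ = r⁻¹ ∨ a * r * a⁻¹ = r⁻¹ * z :=
    fun a ha ha1 => (himg a ha).resolve_left (hfix a ha ha1)
  have d12 := hinj _ hu₁ _ hu₂ h12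
  have d13 := hinj _ hu₁ _ hu₃ h13
  have d23 := hinj _ hu₂ _ hu₃ h23
  obtain ⟨v, hv, hv1, hvr, h3⟩ : ∃ v ∈ U, v ≠ 1 ∧ v * r * v⁻¹ = r * z ∧ 3 ≤ n := by
    rcases hget _ hu₁ h11 with ⟨a, b⟩ | a | a
    · exact ⟨_, hu₁, h11, a, b⟩
    all_goals rcases hget _ hu₂ h21 with ⟨a', b⟩ | a' | a'
    all_goals try exact ⟨_, hu₂, h21, a', b⟩
    all_goals rcases hget _ hu₃ h31 with ⟨a'', b⟩ | a'' | a''
    all_goals try exact ⟨_, hu₃, h31, a'', b⟩
    all_goals first
      | exact absurd (a.trans a'.symm) d12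
      | exact absurd (a.trans a''.symm) d13
      | exact absurd (a'.trans a''.symm) d23
  obtain ⟨w, hw, hw1, hwr⟩ : ∃ w ∈ U, w ≠ 1 ∧ w * r * w⁻¹ = r⁻¹ * z := by
    rcases hget _ hu₁ h11 with ⟨a, -⟩ | a | a
    rotate_left 2
    · exact ⟨_, hu₁, h11, a⟩
    all_goals rcases hget _ hu₂ h21 with ⟨a', -⟩ | a' | a'
    all_goals try exact ⟨_, hu₂, h21, a'⟩
    all_goals rcases hget _ hu₃ h31 with ⟨a'', -⟩ | a'' | a''
    all_goals try exact ⟨_, hu₃, h31, a''⟩
    all_goals first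
      | exact absurd (a.trans a'.symm) d12
      | exact absurd (a.trans a''.symm) d13
      | exact absurd (a'.trans a''.symm) d23
  have hrz : Commute r z := by simpa using (hc.z_comm 1).symm
  -- semidihedral
  have hvs : v * s * v⁻¹ = z * s := by
    obtain ⟨β, hβ, hβ1⟩ := hsimg v hv hv1
    have h2 : r ^ β * r ^ β = z ^ β := by
      have h5 : r ^ β * z ^ β * r ^ β * s = 1 * s := by
        calc r ^ β * z ^ β * r ^ β * s = (v * r ^ β * v⁻¹) * (v * s * v⁻¹) := by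
              rw [← conj_pow, hvr, hrz.mul_pow, hβ]; group
          _ = v * (r ^ β * s) * v⁻¹ := by group
          _ = v * (v * s * v⁻¹) * v⁻¹ := by rw [← hβ]
          _ = 1 * s := by
              rw [hUi v hv, show v * (v * s * v) * v = (v * v) * s * (v * v) by group, h.sq v hv, one_mul, mul_one]
      have h6 := mul_right_cancel h5
      rw [mul_assoc, ((hc.z_comm β).pow_left β).eq, ← mul_assoc] at h6
      rw [eq_inv_of_mul_eq_one_left h6, ← inv_pow, inv_eq_of_mul_eq_one_right h.z2]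
    rw [hβ, (hc.twist h3 h2).resolve_left hβ1]
  have hsr : s * r * s⁻¹ = r⁻¹ * z := by
    refine ((hinvert s hs hs2 hs1 hsz).resolve_left fun e => ?_).1
    have hx2 : r * s * (r * s) = 1 := by
      rw [show r * s * (r * s) = r * (s * r * s⁻¹) * (s * s) by group, e, hs2, mul_one, mul_inv_cancel]
    have hxC : r * s ∉ C := fun e0 => hsC (by simpa using C.mul_mem (C.inv_mem hrC) e0)
    refine hxC ((h.key _ (S.mul_mem (hCS hrC) hs) hx2 (fun e0 => hxC (e0 ▸ C.one_mem)) v hv hv1 ?_) ▸ hzC)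
    rw [← mul_inv_eq_iff_eq_mul, show v * (r * s) * v⁻¹ = (v * r * v⁻¹) * (v * s * v⁻¹) by group, hvr, hvs,
      ← mul_assoc, mul_assoc r z z, h.z2, mul_one]
  have hsi : ∀ i : ℕ, s * r ^ i = (r ^ i)⁻¹ * z ^ i * s := fun i => by
    rw [← hconjpow s hsr i, inv_mul_cancel_right]
  have hsq : ∀ i : ℕ, r ^ i * s * (r ^ i * s) = z ^ i := fun i => by
    rw [show r ^ i * s * (r ^ i * s) = r ^ i * (s * r ^ i) * s by group, hsi]
    calc r ^ i * ((r ^ i)⁻¹ * z ^ i * s) * s = z ^ i * (s * s) := by group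
      _ = z ^ i := by rw [hs2, mul_one]
  obtain ⟨β, hβ, -⟩ := hsimg w hw hw1
  obtain ⟨k, hk⟩ : Even β := by
    by_contra ho
    have h5 := hsq β
    rw [← hβ, mul_self_conj hs2, hc.z_pow_odd (Nat.not_even_iff_odd.1 ho)] at h5
    exact h.z1 h5.symm
  rcases Nat.even_or_odd k with hke | hko
  · exfalso
    have hx2 := (hsq k).trans (hc.z_pow_even hke)
    have hxC : r ^ k * s ∉ C := fun e0 => hsC (by simpa using C.mul_mem (C.inv_mem (hri k)) e0)
    refine hxC ((h.key _ (S.mul_mem (hCS (hri k)) hs) hx2 (fun e0 => hxC (e0 ▸ C.one_mem)) w hw hw1 ?_) ▸ hzC)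
    rw [← mul_inv_eq_iff_eq_mul, show w * (r ^ k * s) * w⁻¹ = (w * r ^ k * w⁻¹) * (w * s * w⁻¹) by group,
      hconjpow w hwr, hc.z_pow_even hke, mul_one, hβ, hk, pow_add, ← mul_assoc, inv_mul_cancel_left]
  have hio : Odd (k + qe) := hko.add_even (hqe h3)
  refine ⟨w, r ^ (k + qe) * s, hw, S.mul_mem (hCS (hri _)) hs, (hsq _).trans (hc.z_pow_odd hio), ?_, ?_⟩
  · rw [hwr, show r ^ (k + qe) * s * r * (r ^ (k + qe) * s)⁻¹ =
      r ^ (k + qe) * (s * r * s⁻¹) * (r ^ (k + qe))⁻¹ by group, hsr, ← mul_assoc,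
      ((Commute.self_pow r (k + qe)).symm.inv_right).eq, mul_assoc r⁻¹, ← hzi, ← mul_assoc, mul_inv_cancel_right]
  · rw [hβ, show r ^ (k + qe) * s * s * (r ^ (k + qe) * s)⁻¹ =
      r ^ (k + qe) * (s * s) * s⁻¹ * (r ^ (k + qe))⁻¹ by group, hs2, mul_one, inv_eq_of_mul_eq_one_right hs2]
    have h7 : (r ^ (k + qe))⁻¹ ∈ C := C.inv_mem (hri _)
    have h8 : s * (r ^ (k + qe))⁻¹ = r ^ (k + qe) * z * s := by
      refine mul_inv_eq_iff_eq_mul.2 ?_
      rw [mul_assoc _ s, hsi, hc.z_pow_odd hio, ← mul_assoc, ← mul_assoc, mul_assoc (r ^ (k + qe)) z,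
        ((hc.z_comm (k + qe)).inv_right).eq, ← mul_assoc, mul_inv_cancel, one_mul, h.z2, one_mul]
    rw [mul_assoc (r ^ (k + qe)), h8, ← mul_assoc, ← mul_assoc, ← pow_add,
      show k + qe + (k + qe) = (k + k) + (qe + qe) by ring, pow_add, pow_add r qe qe, ← hqdef, hq,
      mul_assoc (r ^ (k + k)) z z, h.z2, mul_one, hk]

/-- The members of `U` cannot have fixed points of rank one unless `S` has one involution. -/
theorem Setup.one_involution [A.Normal] (h : Setup A U S z) {s : G} (hs : s ∈ S) (hs2 : s * s = 1) (hs1 : s ≠ 1) :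
    s = z := by
  classical
  by_contra hsz
  haveI : Fact (Nat.Prime 2) := ⟨Nat.prime_two⟩
  obtain ⟨C, q, u, t, hCS, hidx, hsC, hCinv, hcent, ⟨hqS, hqconj⟩, hu, ht, ht2, hut⟩ := h.structure_of hs hs2 hs1 hsz
  -- fusion of s and z
  let T : Sylow 2 A := (h.two.comap_subtype (K := A)).toSylow h.sylow
  have hT : (T : Subgroup A) = S.subgroupOf A := rfl
  obtain ⟨⟨g, hgA⟩, hg⟩ : ∃ g : A, g * ⟨s, h.le hs⟩ * g⁻¹ ∈ C.subgroupOf A := by
    refine (Cfsg.Agent.S0111.result T (C.subgroupOf A) (by rw [hT]; exact Subgroup.comap_mono hCS) ?_ _ ?_ ?_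
      (fun e => hsC e)).resolve_left ?_
    · rw [hT, Subgroup.relIndex_subgroupOf h.le]; exact hidx
    · rw [← Subgroup.orderOf_coe]
      exact orderOf_eq_prime (by rw [pow_two]; exact hs2) hs1
    · rw [hT]; exact hs
    · rintro ⟨N, hN, hN2, hsN⟩
      haveI := hN
      have hA : commutator A = ⊤ := by
        refine Subgroup.map_injective A.subtype_injective ?_
        rw [Subgroup.map_subtype_commutator, h.perfect, ← MonoidHom.range_eq_map, Subgroup.range_subtype]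
      haveI : IsCyclic (A ⧸ N) := isCyclic_of_prime_card (p := 2) (by rw [← Subgroup.index_eq_card, hN2])
      letI : CommGroup (A ⧸ N) := IsCyclic.commGroup
      have h1 := Abelianization.commutator_subset_ker (QuotientGroup.mk' N)
      rw [hA, QuotientGroup.ker_mk'] at h1
      exact hsN (h1 (Subgroup.mem_top _))
  have hgz : g * s * g⁻¹ = z := (hCinv _ hg (mul_self_conj hs2)).resolve_left fun e => hs1 (by
    have e' : g * s * g⁻¹ = 1 := e
    rw [mul_inv_eq_one, mul_eq_left] at e'; exact e')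
  -- 2-subgroups of A centralizing s and z move into S
  have hmove : ∀ R : Subgroup G, IsPGroup 2 R → R ≤ A → z ∈ R → s ∈ R → (∀ x ∈ R, x * s = s * x) →
      ∃ m ∈ A, m * s * m⁻¹ = z ∧ ∀ x ∈ R, m * x * m⁻¹ ∈ S := by
    intro R hR hRA hzR hsR hRs
    set R' := R.map (MulAut.conj g).toMonoidHom
    set Cz := A ⊓ Subgroup.centralizer ({z} : Set G)
    have hR'C : R' ≤ Cz := by
      rintro _ ⟨x, hx, rfl⟩
      refine ⟨A.mul_mem (A.mul_mem hgA (hRA hx)) (A.inv_mem hgA), Subgroup.mem_centralizer_singleton_iff.2 ?_⟩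
      show g * x * g⁻¹ * z = z * (g * x * g⁻¹)
      rw [← hgz, show g * x * g⁻¹ * (g * s * g⁻¹) = g * (x * s) * g⁻¹ by group, hRs x hx]
      group
    have hSC : S ≤ Cz := fun x hx => ⟨h.le hx, Subgroup.mem_centralizer_singleton_iff.2 (h.zcen x hx)⟩
    let T' : Sylow 2 Cz := (h.two.comap_subtype (K := Cz)).toSylow fun hd =>
      h.sylow (hd.trans (Dvd.intro _ (Subgroup.relIndex_mul_relIndex S Cz A hSC inf_le_left)))
    obtain ⟨T'', hT''⟩ := ((hR.map (MulAut.conj g).toMonoidHom).comap_subtype (K := Cz)).exists_le_sylow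
    obtain ⟨c, hc⟩ := MulAction.exists_smul_eq Cz T'' T'
    refine ⟨(c : G) * g, A.mul_mem c.2.1 hgA, ?_, fun x hx => ?_⟩
    · rw [show (c : G) * g * s * ((c : G) * g)⁻¹ = (c : G) * (g * s * g⁻¹) * (c : G)⁻¹ by group, hgz,
        Subgroup.mem_centralizer_singleton_iff.1 c.2.2, mul_inv_cancel_right]
    · have hx' : g * x * g⁻¹ ∈ R' := ⟨x, hx, rfl⟩
      have h1 : c * ⟨_, hR'C hx'⟩ * c⁻¹ ∈ (T' : Subgroup Cz) := by
        rw [← hc, Sylow.coe_subgroup_smul]
        exact Subgroup.mem_map.2 ⟨_, hT'' hx', rfl⟩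
      rw [show (c : G) * g * x * ((c : G) * g)⁻¹ = (c : G) * (g * x * g⁻¹) * (c : G)⁻¹ by group]
      exact h1
  -- the four-group ⟨z, s⟩
  set E := Subgroup.zpowers z ⊔ Subgroup.zpowers s
  have hzs : Commute z s := (h.zcen s hs).symm
  have hES : E ≤ S := sup_le (Subgroup.zpowers_le.2 h.zS) (Subgroup.zpowers_le.2 hs)
  have hEs : ∀ x ∈ E, x * s = s * x := fun x hx => by
    have hle : E ≤ Subgroup.centralizer ({s} : Set G) :=
      sup_le (Subgroup.zpowers_le.2 (Subgroup.mem_centralizer_singleton_iff.2 hzs.eq))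
        (Subgroup.zpowers_le.2 (Subgroup.mem_centralizer_singleton_iff.2 rfl))
    exact Subgroup.mem_centralizer_singleton_iff.1 (hle hx)
  have hzE : z ∈ E := Subgroup.mem_sup_left (Subgroup.mem_zpowers z)
  have hsE : s ∈ E := Subgroup.mem_sup_right (Subgroup.mem_zpowers s)
  obtain ⟨m, hmA, hms, hmE⟩ := hmove E (h.two.to_le hES) (hES.trans h.le) hzE hsE hEs
  have hR : ∀ R : Subgroup G, IsPGroup 2 R → R ≤ A → z ∈ R → s ∈ R → (∀ x ∈ R, x * s = s * x) →
      (∀ x ∈ R, x * z = z * x) → ∀ x ∈ R, x = 1 ∨ x = z ∨ x = s ∨ x = s * z := by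
    intro R hRp hRA hzR hsR hRs hRz x hx
    obtain ⟨m, -, hms, hmR⟩ := hmove R hRp hRA hzR hsR hRs
    set e := m * z * m⁻¹ with he
    have he1 : e ≠ 1 := fun e0 => h.z1 (by rw [he, mul_inv_eq_one, mul_eq_left] at e0; exact e0)
    have hez : e ≠ z := fun e0 => hsz (by
      rw [he] at e0
      exact (mul_left_cancel (mul_right_cancel (e0.trans hms.symm))).symm)
    have hce : m * x * m⁻¹ * e = e * (m * x * m⁻¹) := by
      rw [he, show m * x * m⁻¹ * (m * z * m⁻¹) = m * (x * z) * m⁻¹ by group, hRz x hx]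
      group
    have hinj : ∀ a b : G, m * a * m⁻¹ = m * b * m⁻¹ → a = b := fun a b e0 => mul_left_cancel (mul_right_cancel e0)
    rcases hcent e (hmR z hzR) (mul_self_conj h.z2) he1 hez _ (hmR x hx) hce with e0 | e0 | e0 | e0
    · left; refine hinj _ _ (e0.trans ?_); group
    · right; right; left; exact hinj _ _ (e0.trans hms.symm)
    · right; left; exact hinj _ _ e0
    · right; right; right
      refine hinj _ _ (e0.trans ?_)
      rw [he, ← hms]; group
  have hR2 : ∀ R : Subgroup G, IsPGroup 2 R → R ≤ A → z ∈ R → s ∈ R → (∀ x ∈ R, x * s = s * x) →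
      (∀ x ∈ R, x * z = z * x) → ∀ x ∈ R, x * x = 1 := by
    intro R hRp hRA hzR hsR hRs hRz x hx
    rcases hR R hRp hRA hzR hsR hRs hRz x hx with rfl | rfl | rfl | rfl
    · exact one_mul 1
    · exact h.z2
    · exact hs2
    · rw [← pow_two, hzs.symm.mul_pow, pow_two, pow_two, hs2, h.z2, one_mul]
  -- an element moving z inside the four-group
  set e₁ := m * z * m⁻¹ with he₁
  have he₁1 : e₁ ≠ 1 := fun e0 => h.z1 (by rw [he₁, mul_inv_eq_one, mul_eq_left] at e0; exact e0)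
  have he₁z : e₁ ≠ z := fun e0 => hsz (by
    rw [he₁] at e0
    exact (mul_left_cancel (mul_right_cancel (e0.trans hms.symm))).symm)
  have hqz := hqconj e₁ (hmE z hzE) (mul_self_conj h.z2) he₁1 he₁z
  set d := m⁻¹ * q * m with hd
  have hdA : d ∈ A := A.mul_mem (A.mul_mem (A.inv_mem hmA) (h.le hqS)) hmA
  have hds : d * s * d⁻¹ = s := by
    calc d * s * d⁻¹ = m⁻¹ * (q * (m * s * m⁻¹) * q⁻¹) * m := by rw [hd]; group
      _ = m⁻¹ * (m * s * m⁻¹) * m := by rw [hms, h.zcen q hqS, mul_inv_cancel_right]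
      _ = s := by group
  have hdz : d * z * d⁻¹ = s * z := by
    calc d * z * d⁻¹ = m⁻¹ * (q * e₁ * q⁻¹) * m := by rw [hd, he₁]; group
      _ = m⁻¹ * ((m * s * m⁻¹) * (m * z * m⁻¹)) * m := by rw [hqz, hms, he₁]
      _ = s * z := by group
  -- the outer element of order four
  set c := t⁻¹ * u with hc
  have hcS : ∀ x ∈ S, c * x = x * c := fun x hx => by
    refine mul_inv_eq_iff_eq_mul.1 ?_
    rw [hc, show t⁻¹ * u * x * (t⁻¹ * u)⁻¹ = t⁻¹ * (u * x * u⁻¹) * t by group, hut x hx]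
    group
  have hut' : u * t = t * u := by
    rw [← mul_inv_eq_iff_eq_mul, hut t ht, mul_inv_cancel_right]
  have hcc : c * c = z := by
    rw [← pow_two, hc, (Commute.inv_left (show Commute t u from hut'.symm)).mul_pow, inv_pow, pow_two, pow_two,
      ht2, h.sq u hu, mul_one, inv_eq_of_mul_eq_one_right h.z2]
  set B := A ⊔ Subgroup.zpowers u
  have hcB : c ∈ B := B.mul_mem (Subgroup.mem_sup_left (A.inv_mem (h.le ht)))
    (Subgroup.mem_sup_right (Subgroup.mem_zpowers u))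
  have hB : ∀ x ∈ B, x ∈ A ∨ x * u ∈ A := by
    intro x hx
    obtain ⟨a, ha, b, hb, rfl⟩ := Subgroup.mem_sup_of_normal_left.1 hx
    obtain ⟨i, rfl⟩ := Subgroup.mem_zpowers_iff.1 hb
    rcases Int.even_or_odd i with ⟨j, hj⟩ | ⟨j, hj⟩
    · left
      rw [hj, ← two_mul, zpow_mul, zpow_ofNat, pow_two, h.sq u hu, one_zpow, mul_one]; exact ha
    · right
      rw [hj, zpow_add, zpow_mul, zpow_ofNat, pow_two, h.sq u hu, one_zpow, one_mul, zpow_one, mul_assoc,
        h.sq u hu, mul_one]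
      exact ha
  set Y := B ⊓ Subgroup.centralizer ({z, s} : Set G)
  have hYmem : ∀ {x : G}, x ∈ B → x * z = z * x → x * s = s * x → x ∈ Y := fun hx h1 h2 =>
    ⟨hx, Subgroup.mem_centralizer_iff.2 fun y hy => by
      rcases hy with rfl | rfl
      · exact h1.symm
      · exact h2.symm⟩
  have hYz : ∀ x ∈ Y, x * z = z * x := fun x hx => (Subgroup.mem_centralizer_iff.1 hx.2 z (Or.inl rfl)).symm
  have hYs : ∀ x ∈ Y, x * s = s * x := fun x hx => (Subgroup.mem_centralizer_iff.1 hx.2 s (Or.inr rfl)).symm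
  set c' := d * c * d⁻¹ with hc'
  have hcY : c ∈ Y := hYmem hcB (hcS z h.zS) (hcS s hs)
  have hdE : ∀ y ∈ S, d * c * d⁻¹ * (d * y * d⁻¹) = d * y * d⁻¹ * (d * c * d⁻¹) := fun y hy => by
    rw [show d * c * d⁻¹ * (d * y * d⁻¹) = d * (c * y) * d⁻¹ by group, hcS y hy]; group
  have hc's : c' * s = s * c' := by
    have := hdE s hs
    rwa [hds] at this
  have hc'z : c' * z = z * c' := by
    have h1 := hdE z h.zS
    rw [hdz, ← hc'] at h1
    refine mul_left_cancel (a := s) ?_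
    calc s * (c' * z) = c' * s * z := by rw [hc's, mul_assoc s c' z]
      _ = s * (z * c') := by rw [mul_assoc, h1, mul_assoc]
  have hc'Y : c' ∈ Y := hYmem (B.mul_mem (B.mul_mem (Subgroup.mem_sup_left hdA) hcB)
    (B.inv_mem (Subgroup.mem_sup_left hdA))) hc'z hc's
  have hzsq : c' * c' = s * z := by
    rw [← hdz, hc', show d * c * d⁻¹ * (d * c * d⁻¹) = d * (c * c) * d⁻¹ by group, hcc]
  have hzY : z ∈ Y := hYmem (Subgroup.mem_sup_left (h.le h.zS)) rfl hzs.eq
  have hsY : s ∈ Y := hYmem (Subgroup.mem_sup_left (h.le hs)) hzs.eq.symm rfl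
  set L₀ := E ⊔ Subgroup.zpowers c
  have hL₀Y : L₀ ≤ Y := sup_le (sup_le (Subgroup.zpowers_le.2 hzY) (Subgroup.zpowers_le.2 hsY))
    (Subgroup.zpowers_le.2 hcY)
  have hc4 : c ^ 4 = 1 := by
    rw [show (4 : ℕ) = 2 * 2 from rfl, pow_mul, pow_two c, hcc, pow_two, h.z2]
  have hL₀p : IsPGroup 2 L₀ := by
    refine IsPGroup.to_sup_of_normal_left' (h.two.to_le hES) ?_ (Subgroup.zpowers_le.2 (Subgroup.mem_normalizer_iff.2 fun y => ?_))
    · obtain ⟨j, -, hj⟩ := (Nat.dvd_prime_pow Nat.prime_two).1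
        (show orderOf c ∣ 2 ^ 2 from orderOf_dvd_of_pow_eq_one hc4)
      exact IsPGroup.of_card (n := j) (by rw [Nat.card_zpowers, hj])
    · constructor
      · intro hy; rw [hcS y (hES hy), mul_inv_cancel_right]; exact hy
      · intro hy
        have := hcS _ (hES hy)
        rwa [show y = c⁻¹ * (c * y * c⁻¹) * c by group, mul_assoc, ← this, inv_mul_cancel_left]
  haveI : Finite Y := inferInstance
  obtain ⟨L, hL⟩ := (hL₀p.comap_subtype (K := Y)).exists_le_sylow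
  have hc'p : IsPGroup 2 (Subgroup.zpowers (⟨c', hc'Y⟩ : Y)) := by
    have hd4 : (⟨c', hc'Y⟩ : Y) ^ (2 ^ 2) = 1 := Subtype.ext (by
      show c' ^ 4 = 1
      rw [hc', conj_pow, hc4, mul_one, mul_inv_cancel])
    obtain ⟨j, -, hj⟩ := (Nat.dvd_prime_pow Nat.prime_two).1 (orderOf_dvd_of_pow_eq_one hd4)
    exact IsPGroup.of_card (n := j) (by rw [Nat.card_zpowers, hj])
  obtain ⟨L', hL'⟩ := hc'p.exists_le_sylow
  obtain ⟨y, hy⟩ := MulAction.exists_smul_eq Y L' L
  have hℓ : y * ⟨c', hc'Y⟩ * y⁻¹ ∈ (L : Subgroup Y) := by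
    rw [← hy, Sylow.coe_subgroup_smul]
    exact Subgroup.mem_map.2 ⟨_, hL' (Subgroup.mem_zpowers _), rfl⟩
  set LG := (L : Subgroup Y).map Y.subtype
  have hLGp : IsPGroup 2 LG := L.isPGroup'.map _
  have hLY : LG ≤ Y := Subgroup.map_subtype_le _
  have hin : ∀ x, x ∈ L₀ → x ∈ LG := fun x hx => ⟨⟨x, hL₀Y hx⟩, hL hx, rfl⟩
  set ℓ := (y : G) * c' * (y : G)⁻¹ with hℓdef
  have hℓ' : ℓ ∈ LG := ⟨_, hℓ, rfl⟩
  have hℓℓ : ℓ * ℓ = s * z := by
    rw [hℓdef, show (y : G) * c' * (y : G)⁻¹ * (y * c' * (y : G)⁻¹) = y * (c' * c') * (y : G)⁻¹ by group, hzsq,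
      ← mul_assoc, hYs _ y.2, mul_assoc s, hYz _ y.2, ← mul_assoc, mul_inv_cancel_right]
  have hRA := hR (LG ⊓ A) (hLGp.to_le inf_le_left) inf_le_right
    ⟨hin z (Subgroup.mem_sup_left hzE), h.le h.zS⟩ ⟨hin s (Subgroup.mem_sup_left hsE), h.le hs⟩
    (fun x hx => hYs x (hLY hx.1)) (fun x hx => hYz x (hLY hx.1))
  have hRA2 := hR2 (LG ⊓ A) (hLGp.to_le inf_le_left) inf_le_right
    ⟨hin z (Subgroup.mem_sup_left hzE), h.le h.zS⟩ ⟨hin s (Subgroup.mem_sup_left hsE), h.le hs⟩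
    (fun x hx => hYs x (hLY hx.1)) (fun x hx => hYz x (hLY hx.1))
  have hcL : c ∈ LG := hin c (Subgroup.mem_sup_right (Subgroup.mem_zpowers c))
  have hcA : c ∉ A := fun e => h.z1 (by rw [← hcc]; exact hRA2 c ⟨hcL, e⟩)
  have hsz1 : s * z ≠ 1 := fun e => hsz (by rw [eq_inv_of_mul_eq_one_left e, inv_eq_of_mul_eq_one_right h.z2])
  have hℓA : ℓ ∉ A := fun e => hsz1 (by rw [← hℓℓ]; exact hRA2 ℓ ⟨hℓ', e⟩)
  have hcu : c * u ∈ A := (hB c hcB).resolve_left hcA
  have hℓu : ℓ * u ∈ A := (hB ℓ (hLY hℓ').1).resolve_left hℓA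
  have hcl : c⁻¹ * ℓ ∈ A := by
    have h1 : c * ℓ⁻¹ ∈ A := by
      have := A.mul_mem hcu (A.inv_mem hℓu)
      rwa [show c * u * (ℓ * u)⁻¹ = c * ℓ⁻¹ by group] at this
    have h2 := A.inv_mem ((inferInstance : A.Normal).conj_mem _ h1 c⁻¹)
    simpa [mul_assoc] using h2
  set a := c⁻¹ * ℓ with hadef
  have haL : a ∈ LG ⊓ A := ⟨LG.mul_mem (LG.inv_mem hcL) hℓ', hcl⟩
  have hca : Commute c a := by
    rcases hRA a haL with e | e | e | e <;> rw [e]
    · exact Commute.one_right c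
    · exact hcS z h.zS
    · exact hcS s hs
    · exact hcS _ (S.mul_mem hs h.zS)
  have h9 : ℓ * ℓ = z := by
    calc ℓ * ℓ = (c * a) ^ 2 := by rw [pow_two, hadef]; group
      _ = z := by rw [hca.mul_pow, pow_two, pow_two, hcc, hRA2 a haL, mul_one]
  rw [hℓℓ] at h9
  exact hs1 (mul_eq_right.1 h9)

end Cfsg.Agent.RankOneGamma
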